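import Mathlib.RingTheory.QuasiFinite.Basic
import Mathlib.RingTheory.Etale.Pi
import Mathlib.RingTheory.Localization.Away.Lemmas
import Mathlib.RingTheory.FinitePresentation
import Mathlib.FieldTheory.IsAlgClosed.Basic

/-!
# Quasi-finite algebras over absolutely flat rings with algebraically closed residue fields
-/

set_option autoImplicit false
set_option linter.style.haveILetI false

universe u

open TensorProduct

namespace Groth.Agent.QfinFlat13

variable {R : Type u} [CommRing R]

theorem exists_idem (hR : ∀ x : R, ∃ y, x = x * x * y) (p : Ideal R) [p.IsPrime] (s : Finset R)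
    (hs : ∀ x ∈ s, x ∈ p) : ∃ e : R, IsIdempotentElem e ∧ e ∉ p ∧ ∀ x ∈ s, e * x = 0 := by
  classical
  induction s using Finset.induction_on with
  | empty => exact ⟨1, IsIdempotentElem.one, p.ne_top_iff_one.1 (Ideal.IsPrime.ne_top inferInstance), by simp⟩
  | insert a s _ ih =>
    obtain ⟨e, he, hep, hes⟩ := ih fun x hx => hs x (Finset.mem_insert_of_mem hx)
    obtain ⟨y, hy⟩ := hR a
    have ha : (1 - a * y) * a = 0 := by linear_combination hy
    have hid : IsIdempotentElem (1 - a * y) := by
      show (1 - a * y) * (1 - a * y) = 1 - a * y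
      linear_combination (-y) * ha
    refine ⟨e * (1 - a * y), he.mul hid, fun h => ?_, fun x hx => ?_⟩
    · rcases Ideal.IsPrime.mem_or_mem inferInstance h with h | h
      · exact hep h
      · refine Ideal.IsPrime.ne_top (I := p) inferInstance ((Ideal.eq_top_iff_one _).2 ?_)
        simpa using p.add_mem h (p.mul_mem_right y (hs a (Finset.mem_insert_self a s)))
    · rcases Finset.mem_insert.1 hx with rfl | hx
      · rw [mul_assoc, ha, mul_zero]
      · rw [mul_right_comm, hes x hx, zero_mul]

theorem isMaximal_of_prime (hR : ∀ x : R, ∃ y, x = x * x * y) (p : Ideal R) [p.IsPrime] : p.IsMaximal := by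
  refine Ideal.isMaximal_iff.2 ⟨p.ne_top_iff_one.1 (Ideal.IsPrime.ne_top inferInstance), fun J x hle hxp hxJ => ?_⟩
  obtain ⟨y, hy⟩ := hR x
  have h : x * (1 - x * y) ∈ p := by
    convert p.zero_mem using 1
    linear_combination hy
  have := J.add_mem (hle ((Ideal.IsPrime.mem_or_mem inferInstance h).resolve_left hxp)) (J.mul_mem_right y hxJ)
  simpa using this

theorem smul_mk_eq_zero {e : R} (he : IsIdempotentElem e) {f x : R}
    (hx : x ∈ Ideal.span {1 - e * f}) (hf : IsIdempotentElem f) : e * f * x = 0 := by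
  obtain ⟨c, rfl⟩ := Ideal.mem_span_singleton'.1 hx
  linear_combination (-(c * f * f)) * he.eq + (-(c * e)) * hf.eq

theorem mk_eq_zero_of_mul {e x : R} (h : e * x = 0) : Ideal.Quotient.mk (Ideal.span {1 - e}) x = 0 := by
  rw [Ideal.Quotient.eq_zero_iff_mem, Ideal.mem_span_singleton']
  exact ⟨x, by linear_combination -h⟩

variable {S : Type u} [CommRing S] [Algebra R S]

/-- Over the clopen set of `e`, the algebra is a thickening of a split finite étale algebra. -/
def Good (S : Type u) [CommRing S] [Algebra R S] (e : R) : Prop :=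
  IsIdempotentElem e ∧ ∃ (n : ℕ) (Φ : S →ₐ[R] Fin n → R ⧸ Ideal.span {1 - e}),
    Function.Surjective Φ ∧ ∀ s, Φ s = 0 → IsNilpotent (e • s)

theorem span_le_span {e f : R} (he : IsIdempotentElem e) :
    Ideal.span {1 - e} ≤ Ideal.span {1 - e * f} := by
  rw [Ideal.span_le, Set.singleton_subset_iff, SetLike.mem_coe, Ideal.mem_span_singleton']
  exact ⟨1 - e, by linear_combination f * he.eq⟩

theorem Good.mul {e f : R} (h : Good S e) (hf : IsIdempotentElem f) : Good S (e * f) := by
  obtain ⟨he, n, Φ, hΦ, hker⟩ := h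
  refine ⟨he.mul hf, n, (AlgHom.pi fun i => (Ideal.Quotient.factorₐ R (span_le_span he)).comp
    (Pi.evalAlgHom R _ i)).comp Φ, fun z => ?_, fun s hs => ?_⟩
  · choose w hw using fun i => Ideal.Quotient.factor_surjective (span_le_span (f := f) he) (z i)
    obtain ⟨s, hs⟩ := hΦ w
    exact ⟨s, funext fun i => (congrArg _ (congrFun hs i)).trans (hw i)⟩
  · have h0 : Φ ((e * f) • s) = 0 := by
      rw [map_smul]
      funext i
      obtain ⟨r, hr⟩ := Ideal.Quotient.mk_surjective (Φ s i)
      have h1 : r ∈ Ideal.span {1 - e * f} := by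
        have := congrFun hs i
        rw [← Ideal.Quotient.eq_zero_iff_mem]
        refine Eq.trans ?_ this
        exact ((congrArg (Ideal.Quotient.factor (span_le_span he)) hr.symm).trans
          (Ideal.Quotient.factor_mk (span_le_span he) r)).symm
      rw [Pi.smul_apply, ← hr]
      show Ideal.Quotient.mk _ (e * f * r) = 0
      rw [smul_mk_eq_zero he h1 hf, map_zero]
    have := hker _ h0
    rwa [smul_smul, ← mul_assoc, he.eq] at this

/-- An element of `p S` is killed by an idempotent outside `p`. -/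
theorem exists_idem_smul (hR : ∀ x : R, ∃ y, x = x * x * y) (p : Ideal R) [p.IsPrime] {x : S}
    (hx : x ∈ p.map (algebraMap R S)) : ∃ e : R, IsIdempotentElem e ∧ e ∉ p ∧ e • x = 0 := by
  induction hx using Submodule.span_induction with
  | mem x hx =>
    obtain ⟨r, hr, rfl⟩ := hx
    obtain ⟨e, he, hep, h⟩ := exists_idem hR p {r} (by simpa using hr)
    refine ⟨e, he, hep, ?_⟩
    rw [Algebra.smul_def, ← map_mul, h r (by simp), map_zero]
  | zero => exact ⟨1, IsIdempotentElem.one, p.ne_top_iff_one.1 (Ideal.IsPrime.ne_top inferInstance), smul_zero _⟩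
  | add x y _ _ hx hy =>
    obtain ⟨e, he, hep, h⟩ := hx
    obtain ⟨e', he', hep', h'⟩ := hy
    refine ⟨e * e', he.mul he', fun h => (Ideal.IsPrime.mem_or_mem inferInstance h).elim hep hep', ?_⟩
    rw [smul_add, mul_comm e e', mul_smul, h, smul_zero, mul_comm e' e, mul_smul, h', smul_zero, add_zero]
  | smul a x _ hx =>
    obtain ⟨e, he, hep, h⟩ := hx
    exact ⟨e, he, hep, by rw [smul_comm, h, smul_zero]⟩

/-- Splitting near a prime. -/
theorem exists_good_notMem [Algebra.QuasiFinite R S] [Algebra.FinitePresentation R S]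
    (hR : ∀ x : R, ∃ y, x = x * x * y)
    (hroot : ∀ q : Polynomial R, q.Monic → 0 < q.natDegree → ∃ r, q.eval r = 0)
    (p : Ideal R) [p.IsPrime] : ∃ e : R, e ∉ p ∧ Good S e := by
  classical
  haveI : p.IsMaximal := isMaximal_of_prime hR p
  let L := R ⧸ p
  letI : Field L := Ideal.Quotient.field p
  haveI : IsAlgClosed L := IsAlgClosed.of_exists_root _ fun q hq hirr => by
    obtain ⟨q', hq', hdeg, hmon⟩ := Polynomial.lifts_and_degree_eq_and_monic
      (f := Ideal.Quotient.mk p) (Polynomial.map_surjective _ Ideal.Quotient.mk_surjective q) hq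
    obtain ⟨r, hr⟩ := hroot q' hmon (by
      rw [Polynomial.natDegree_eq_of_degree_eq hdeg]
      exact hirr.natDegree_pos)
    exact ⟨Ideal.Quotient.mk p r, by rw [← hq', Polynomial.eval_map, Polynomial.eval₂_hom, hr, map_zero]⟩
  let T := L ⊗[R] S
  haveI : Module.Finite L T := Algebra.QuasiFinite.iff_of_isArtinianRing.1 inferInstance
  haveI : IsArtinianRing T := IsArtinianRing.of_finite L T
  -- the points of the fibre
  have hbij : ∀ m : MaximalSpectrum T, Function.Bijective (algebraMap L (T ⧸ m.asIdeal)) := fun m => by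
    haveI := m.isMaximal
    exact IsAlgClosed.algebraMap_bijective_of_isIntegral
  let φ : ∀ m : MaximalSpectrum T, T →ₐ[L] L := fun m =>
    (AlgEquiv.ofBijective (Algebra.ofId L (T ⧸ m.asIdeal)) (hbij m)).symm.toAlgHom.comp
      (Ideal.Quotient.mkₐ L m.asIdeal)
  have hφ : ∀ m t, φ m t = 0 ↔ t ∈ m.asIdeal := fun m t => by
    rw [← Ideal.Quotient.eq_zero_iff_mem]
    exact map_eq_zero_iff (AlgEquiv.ofBijective (Algebra.ofId L (T ⧸ m.asIdeal)) (hbij m)).symm.toAlgHom (AlgEquiv.injective _)
  haveI := Fintype.ofFinite (MaximalSpectrum T)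
  let n := Fintype.card (MaximalSpectrum T)
  let ε : Fin n ≃ MaximalSpectrum T := (Fintype.equivFin _).symm
  let inc : S →ₐ[R] T := Algebra.TensorProduct.includeRight
  have hinc : Function.Surjective inc :=
    Algebra.TensorProduct.includeRight_surjective _ Ideal.Quotient.mk_surjective
  let a : Fin n → (S →ₐ[R] L) := fun i => ((φ (ε i)).restrictScalars R).comp inc
  have hδ : ∀ j : Fin n, ∃ s : S, ∀ i, a i s = if i = j then 1 else 0 := fun j => by
    obtain ⟨t, ht⟩ := Ideal.exists_forall_sub_mem_ideal (I := fun i : Fin n => (ε i).asIdeal)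
      (fun i k hik => Ideal.isCoprime_iff_sup_eq.2 ((ε i).isMaximal.coprime_of_ne (ε k).isMaximal
        fun h => hik (ε.injective (MaximalSpectrum.ext h)))) (fun i => if i = j then 1 else 0)
    obtain ⟨s, hs⟩ := hinc t
    refine ⟨s, fun i => ?_⟩
    have h := (hφ (ε i) _).2 (ht i)
    rw [map_sub, sub_eq_zero, ← hs] at h
    refine h.trans ?_
    split <;> simp
  choose s hs using hδ
  -- lift to a neighbourhood
  obtain ⟨N, g, hg, hgfg⟩ := Algebra.FinitePresentation.out (R := R) (A := S)
  obtain ⟨F, hF⟩ := hgfg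
  choose v hv using fun (i : Fin n) (k : Fin N) => Ideal.Quotient.mk_surjective (a i (g (MvPolynomial.X k)))
  have hvP : ∀ i P, Ideal.Quotient.mk p (MvPolynomial.aeval (v i) P) = a i (g P) := fun i P => by
    have : (Ideal.Quotient.mkₐ R p).comp (MvPolynomial.aeval (v i)) = (a i).comp g :=
      MvPolynomial.algHom_ext fun k => by simp [hv]
    exact congr($this P)
  choose Q hQ using fun j => hg (s j)
  let bad : Finset R :=
    ((Finset.univ ×ˢ F).image fun x : Fin n × MvPolynomial (Fin N) R => MvPolynomial.aeval (v x.1) x.2) ∪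
      (Finset.univ.image fun x : Fin n × Fin n =>
        MvPolynomial.aeval (v x.1) (Q x.2) - if x.1 = x.2 then 1 else 0)
  obtain ⟨e, he, hep, hbad⟩ := exists_idem hR p bad fun x hx => by
    rw [← Ideal.Quotient.eq_zero_iff_mem]
    rcases Finset.mem_union.1 hx with hx | hx <;> obtain ⟨⟨i, y⟩, hy, rfl⟩ := Finset.mem_image.1 hx
    · rw [hvP, show g y = 0 from RingHom.mem_ker.1 (hF ▸ Ideal.subset_span (Finset.mem_product.1 hy).2), map_zero]
    · rw [map_sub, hvP, hQ, hs]
      split <;> simp
  let Z := R ⧸ Ideal.span {1 - e}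
  have hlift : ∀ i, RingHom.ker g ≤ RingHom.ker (MvPolynomial.aeval (R := R) fun k => Ideal.Quotient.mk (Ideal.span {1 - e}) (v i k)) := fun i => by
    show RingHom.ker g.toRingHom ≤ _
    rw [← hF, Ideal.span_le]
    intro y hy
    show MvPolynomial.aeval (fun k => Ideal.Quotient.mk (Ideal.span {1 - e}) (v i k)) y = 0
    rw [show (fun k => Ideal.Quotient.mk (Ideal.span {1 - e}) (v i k)) =
      (fun k => Ideal.Quotient.mkₐ R (Ideal.span {1 - e}) (v i k)) from rfl, ← MvPolynomial.comp_aeval_apply]
    exact mk_eq_zero_of_mul (hbad _ (Finset.mem_union_left _ (Finset.mem_image.2 ⟨(i, y), by simpa using hy, rfl⟩)))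
  let ψ : Fin n → (S →ₐ[R] Z) := fun i => AlgHom.liftOfSurjective g hg _ (hlift i)
  have hψ : ∀ i P, ψ i (g P) = Ideal.Quotient.mk _ (MvPolynomial.aeval (v i) P) := fun i P =>
    (AlgHom.liftOfSurjective_apply _ _ _ _ P).trans
      (MvPolynomial.comp_aeval_apply _ (Ideal.Quotient.mkₐ R (Ideal.span {1 - e})) P).symm
  let Φ : S →ₐ[R] Fin n → Z := AlgHom.pi ψ
  have hΦs : ∀ i j, ψ i (s j) = if i = j then 1 else 0 := fun i j => by
    rw [← hQ, hψ]
    have := mk_eq_zero_of_mul (hbad _ (Finset.mem_union_right _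
      (Finset.mem_image.2 ⟨(i, j), Finset.mem_univ _, rfl⟩)))
    rw [map_sub, sub_eq_zero] at this
    refine this.trans ?_
    split <;> simp_all
  have hΦ : Function.Surjective Φ := fun z => by
    choose r hr using fun j => Ideal.Quotient.mk_surjective (z j)
    refine ⟨∑ j, r j • s j, funext fun i => ?_⟩
    show ψ i (∑ j, r j • s j) = z i
    rw [map_sum, Finset.sum_eq_single i (fun j _ hji => by rw [map_smul, hΦs, if_neg (Ne.symm hji), smul_zero])
      (by simp), map_smul, hΦs, if_pos rfl, ← hr, Algebra.smul_def, mul_one]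
    rfl
  haveI : IsLocalization.Away e Z := IsLocalization.Away.quotient_of_isIdempotentElem he
  haveI : Algebra.Etale R Z := Algebra.Etale.of_isLocalizationAway e
  obtain ⟨G, hG⟩ := Algebra.FinitePresentation.ker_fG_of_surjective Φ hΦ
  have hGnil : ∀ x ∈ G, ∃ d : R, IsIdempotentElem d ∧ d ∉ p ∧ IsNilpotent (d • x) := fun x hx => by
    have h0 : Φ x = 0 := RingHom.mem_ker.1 (hG ▸ Ideal.subset_span hx)
    have hle : Ideal.span {1 - e} ≤ p := by
      rw [Ideal.span_le, Set.singleton_subset_iff, SetLike.mem_coe]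
      exact (Ideal.IsPrime.mem_or_mem inferInstance
        (show e * (1 - e) ∈ p by rw [mul_sub, mul_one, he.eq, sub_self]; exact p.zero_mem)).resolve_left hep
    have hcomp : ∀ i, a i x = Ideal.Quotient.factor hle (ψ i x) := fun i => by
      obtain ⟨P, rfl⟩ := hg x
      rw [hψ, Ideal.Quotient.factor_mk, hvP]
    have hnil : IsNilpotent (inc x) := by
      rw [nilpotent_iff_mem_prime]
      intro J hJ
      have hmax : J.IsMaximal := inferInstance
      obtain ⟨i, hi⟩ := ε.surjective ⟨J, hmax⟩
      have : inc x ∈ (ε i).asIdeal := (hφ _ _).1 <| by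
        refine (hcomp i).trans ?_
        rw [show ψ i x = 0 from congrFun h0 i, map_zero]
      rwa [hi] at this
    obtain ⟨m, hm⟩ := hnil
    let I := p.map (algebraMap R S)
    let θ : T →ₐ[R] S ⧸ I := Algebra.TensorProduct.lift
      (Ideal.Quotient.liftₐ p (Algebra.ofId R (S ⧸ I)) fun r hr => by
        show algebraMap R (S ⧸ I) r = 0
        rw [IsScalarTower.algebraMap_apply R S (S ⧸ I)]
        exact Ideal.Quotient.eq_zero_iff_mem.2 (Ideal.mem_map_of_mem _ hr))
      (Ideal.Quotient.mkₐ R I) fun _ _ => Commute.all _ _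
    have hxI : x ^ m ∈ I := by
      have h1 : θ (inc (x ^ m)) = Ideal.Quotient.mk I (x ^ m) :=
        (Algebra.TensorProduct.lift_tmul _ _ _ 1 (x ^ m)).trans (by rw [map_one, one_mul]; rfl)
      rw [← Ideal.Quotient.eq_zero_iff_mem, ← h1, map_pow inc, hm, map_zero]
    obtain ⟨d, hd, hdp, hdx⟩ := exists_idem_smul hR p hxI
    refine ⟨d, hd, hdp, m + 1, ?_⟩
    rw [smul_pow, hd.pow_succ_eq, pow_succ, ← smul_mul_assoc, hdx, zero_mul]
  choose! d hd hdp hdn using hGnil
  let D := ∏ x ∈ G, d x
  have hD : IsIdempotentElem D := Finset.prod_induction d IsIdempotentElem (fun _ _ h h' => h.mul h') IsIdempotentElem.one hd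
  refine ⟨e * D, fun h => ?_, ?_⟩
  · rcases Ideal.IsPrime.mem_or_mem inferInstance h with h | h
    · exact hep h
    · obtain ⟨x, hx, hxp⟩ := (Ideal.IsPrime.prod_mem_iff (p := p)).1 h
      exact hdp x hx hxp
  have hker : ∀ x, Φ x = 0 → IsNilpotent (D • x) := fun x hx => by
    have hx' : x ∈ Ideal.span (G : Set S) := hG ▸ hx
    induction hx' using Submodule.span_induction with
    | mem y hy =>
      obtain ⟨c, hc⟩ := Finset.dvd_prod_of_mem d hy
      rw [show D = c * d y from hc.trans (mul_comm _ _), mul_smul, Algebra.smul_def]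
      exact Commute.isNilpotent_mul_left (Commute.all _ _) (hdn y hy)
    | zero => simp
    | add y z hy hz ihy ihz =>
      rw [smul_add]
      exact Commute.isNilpotent_add (Commute.all _ _) (ihy (RingHom.mem_ker.1 (hG ▸ hy))) (ihz (RingHom.mem_ker.1 (hG ▸ hz)))
    | smul c y hy ihy =>
      rw [smul_eq_mul, ← mul_smul_comm]
      exact Commute.isNilpotent_mul_left (Commute.all _ _) (ihy (RingHom.mem_ker.1 (hG ▸ hy)))
  refine ⟨he.mul hD, n, (AlgHom.pi fun i => (Ideal.Quotient.factorₐ R (span_le_span he)).comp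
    (Pi.evalAlgHom R _ i)).comp Φ, fun z => ?_, fun x hx => ?_⟩
  · choose w hw using fun i => Ideal.Quotient.factor_surjective (span_le_span (f := D) he) (z i)
    obtain ⟨x, hx⟩ := hΦ w
    exact ⟨x, funext fun i => (congrArg _ (congrFun hx i)).trans (hw i)⟩
  · have h0 : Φ ((e * D) • x) = 0 := by
      rw [map_smul]
      funext i
      obtain ⟨r, hr⟩ := Ideal.Quotient.mk_surjective (Φ x i)
      have h1 : r ∈ Ideal.span {1 - e * D} := by
        have := congrFun hx i
        rw [← Ideal.Quotient.eq_zero_iff_mem]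
        refine Eq.trans ?_ this
        exact ((congrArg (Ideal.Quotient.factor (span_le_span he)) hr.symm).trans
          (Ideal.Quotient.factor_mk (span_le_span he) r)).symm
      rw [Pi.smul_apply, ← hr]
      show Ideal.Quotient.mk _ (e * D * r) = 0
      rw [smul_mk_eq_zero he h1 hD, map_zero]
    have := hker _ h0
    rwa [smul_smul, show D * (e * D) = e * D by linear_combination e * hD.eq] at this

/-- A quasi-finite finitely presented algebra is a thickening of a finite étale algebra. -/
theorem exists_finiteEtale [Algebra.QuasiFinite R S] [Algebra.FinitePresentation R S]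
    (hR : ∀ x : R, ∃ y, x = x * x * y)
    (hroot : ∀ q : Polynomial R, q.Monic → 0 < q.natDegree → ∃ r, q.eval r = 0) :
    ∃ (Z : Type u) (_ : CommRing Z) (_ : Algebra R Z), Module.Finite R Z ∧ Algebra.Etale R Z ∧
      ∃ Φ : S →ₐ[R] Z, Function.Surjective Φ ∧ ∀ s, Φ s = 0 → IsNilpotent s := by
  classical
  have hcov : ∀ t : Finset R, (∀ a ∈ t, Good S a) → ∃ (k : ℕ) (f : Fin k → R), (∀ i, Good S (f i)) ∧
      (Pairwise fun i j => f i * f j = 0) ∧ IsIdempotentElem (∑ i, f i) ∧ ∀ a ∈ t, a * (∑ i, f i) = a := by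
    intro t
    induction t using Finset.induction_on with
    | empty =>
      exact fun _ => ⟨0, Fin.elim0, fun i => i.elim0, fun i => i.elim0,
        by simp [IsIdempotentElem], fun a ha => absurd ha (Finset.notMem_empty a)⟩
    | insert a t _ ih =>
      intro ht
      obtain ⟨k, f, hf, horth, hP, hft⟩ := ih fun b hb => ht b (Finset.mem_insert_of_mem hb)
      have ha := ht a (Finset.mem_insert_self a t)
      have hfP : ∀ i, f i * (∑ j, f j) = f i := fun i => by
        rw [Finset.mul_sum, Finset.sum_eq_single i (fun j _ hj => horth hj.symm) (by simp), (hf i).1.eq]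
      refine ⟨k + 1, Fin.cons (a * (1 - ∑ i, f i)) f,
        Fin.cases (ha.mul hP.one_sub) hf, ?_, ?_, fun b hb => ?_⟩
      · intro i j hij
        induction i using Fin.cases with
        | zero =>
          induction j using Fin.cases with
          | zero => exact absurd rfl hij
          | succ j => simp only [Fin.cons_zero, Fin.cons_succ]; linear_combination (-a) * hfP j
        | succ i =>
          induction j using Fin.cases with
          | zero => simp only [Fin.cons_zero, Fin.cons_succ]; linear_combination (-a) * hfP i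
          | succ j => simp only [Fin.cons_succ]; exact horth fun h => hij (congrArg Fin.succ h)
      · rw [Fin.sum_univ_succ]
        simp only [Fin.cons_zero, Fin.cons_succ]
        show _ * _ = _
        linear_combination ((1 - ∑ i, f i) ^ 2) * ha.1.eq + (1 - a) * hP.eq
      · rw [Fin.sum_univ_succ]
        simp only [Fin.cons_zero, Fin.cons_succ]
        rcases Finset.mem_insert.1 hb with rfl | hb
        · linear_combination (1 - ∑ i, f i) * ha.1.eq
        · linear_combination (1 - a) * hft b hb
  have hspan : Ideal.span {e : R | Good S e} = ⊤ := by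
    by_contra h
    obtain ⟨M, hM, hle⟩ := Ideal.exists_le_maximal _ h
    obtain ⟨e, he, hg⟩ := exists_good_notMem (S := S) hR hroot M
    exact he (hle (Ideal.subset_span hg))
  obtain ⟨t, ht, h1⟩ := Submodule.mem_span_finite_of_mem_span ((Ideal.eq_top_iff_one _).1 hspan)
  obtain ⟨k, f, hf, horth, -, hft⟩ := hcov t fun a ha => ht ha
  have hsum : ∑ i, f i = 1 := by
    obtain ⟨c, -, hc⟩ := Submodule.mem_span_finset.1 h1
    calc ∑ i, f i = (∑ a ∈ t, c a • a) * ∑ i, f i := by rw [hc, one_mul]
      _ = ∑ a ∈ t, c a • a := by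
        rw [Finset.sum_mul]
        exact Finset.sum_congr rfl fun a ha => by rw [smul_eq_mul, mul_assoc, hft a ha]
      _ = 1 := hc
  choose hidem n Φ hΦ hker using hf
  haveI hloc : ∀ i, IsLocalization.Away (f i) (R ⧸ Ideal.span {1 - f i}) := fun i =>
    IsLocalization.Away.quotient_of_isIdempotentElem (hidem i)
  haveI : ∀ i, Algebra.Etale R (R ⧸ Ideal.span {1 - f i}) := fun i => Algebra.Etale.of_isLocalizationAway (f i)
  refine ⟨∀ i, Fin (n i) → R ⧸ Ideal.span {1 - f i}, inferInstance, inferInstance, inferInstance,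
    inferInstance, AlgHom.pi Φ, fun z => ?_, fun x hx => ?_⟩
  · choose w hw using fun i => hΦ i (z i)
    refine ⟨∑ j, f j • w j, funext fun i => ?_⟩
    show Φ i (∑ j, f j • w j) = z i
    have key : ∀ (j : Fin k) (y : Fin (n i) → R ⧸ Ideal.span {1 - f i}),
        f j • y = if j = i then y else 0 := fun j y => by
      funext l
      obtain ⟨r, hr⟩ := Ideal.Quotient.mk_surjective (y l)
      rw [Pi.smul_apply, ← hr]
      show Ideal.Quotient.mk _ (f j * r) = _
      split_ifs with h
      · subst h
        rw [← hr, Ideal.Quotient.eq, Ideal.mem_span_singleton']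
        exact ⟨-r, by ring⟩
      · exact mk_eq_zero_of_mul (by rw [← mul_assoc, horth (Ne.symm h), zero_mul])
    rw [map_sum, Finset.sum_eq_single i (fun j _ hji => by rw [map_smul, key, if_neg hji]) (by simp),
      map_smul, key, if_pos rfl, hw]
  · rw [show x = ∑ i, f i • x by rw [← Finset.sum_smul, hsum, one_smul]]
    exact isNilpotent_sum fun i _ => hker i x (congrFun hx i)

end Groth.Agent.QfinFlat13
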